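import Mathlib
import Cfsg.Prelude.Def_Perm
import Cfsg.Agent.Chev.FF

/-! The one-dimensional semi-affine group: its linear part and order. -/

set_option autoImplicit false

namespace CF.EqC

open Subgroup Cfsg

variable {F : Type*} [Field F]

theorem semi_uniq {a a' : Fˣ} {b b' : F} {φ φ' : F ≃+* F}
    (h : ∀ x, (a : F) * φ x + b = a' * φ' x + b') : a = a' ∧ b = b' ∧ φ = φ' := by
  have hb : b = b' := by simpa using h 0
  subst hb
  have ha : a = a' := Units.ext (by simpa using h 1)
  subst ha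
  exact ⟨rfl, rfl, RingEquiv.ext fun x => by simpa using h x⟩

/-- the field automorphism attached to a semi-affine map -/
noncomputable def tw (σ : semiaffineGroup F) : RingAut F := σ.2.choose_spec.choose_spec.choose

theorem tw_spec (σ : semiaffineGroup F) :
    ∃ (a : Fˣ) (b : F), ∀ x, (σ : Equiv.Perm F) x = a * tw σ x + b :=
  ⟨_, _, σ.2.choose_spec.choose_spec.choose_spec⟩

theorem tw_eq {σ : semiaffineGroup F} {a : Fˣ} {b : F} {φ : RingAut F}
    (h : ∀ x, (σ : Equiv.Perm F) x = a * φ x + b) : tw σ = φ := by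
  obtain ⟨a', b', h'⟩ := tw_spec σ
  exact (semi_uniq fun x => (h' x).symm.trans (h x)).2.2

/-- the twisting homomorphism -/
noncomputable def twH : semiaffineGroup F →* RingAut F := MonoidHom.mk' tw fun σ τ => by
  obtain ⟨a, b, h⟩ := tw_spec σ
  obtain ⟨c, d, h'⟩ := tw_spec τ
  refine tw_eq (a := a * Units.map (tw σ : F →* F) c) (b := a * tw σ d + b) fun x => ?_
  change (σ : Equiv.Perm F) ((τ : Equiv.Perm F) x) = _
  rw [h', h]
  simp only [map_add, map_mul, Units.val_mul, Units.coe_map, MonoidHom.coe_coe]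
  change _ = _ * tw σ (tw τ x) + _
  ring

/-- the semi-affine map with given data -/
def mkS (a : Fˣ) (b : F) (φ : RingAut F) : semiaffineGroup F :=
  ⟨(φ.toEquiv.trans (Units.mulLeft a)).trans (Equiv.addRight b), a, b, φ, fun _ => rfl⟩

theorem mkS_apply (a : Fˣ) (b : F) (φ : RingAut F) (x : F) :
    (mkS a b φ : Equiv.Perm F) x = a * φ x + b := rfl

theorem twH_mkS (a : Fˣ) (b : F) (φ : RingAut F) : twH (mkS a b φ) = φ := tw_eq fun _ => rfl

theorem affine_le : affineGroup F ≤ semiaffineGroup F :=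
  fun _ ⟨a, b, h⟩ => ⟨a, b, RingEquiv.refl F, h⟩

theorem ker_twH : (twH (F := F)).ker = (affineGroup F).subgroupOf (semiaffineGroup F) := by
  ext σ
  rw [MonoidHom.mem_ker, mem_subgroupOf]
  constructor
  · intro h
    obtain ⟨a, b, h'⟩ := tw_spec σ
    rw [show tw σ = 1 from h] at h'
    exact ⟨a, b, h'⟩
  · rintro ⟨a, b, h⟩
    exact tw_eq (φ := 1) h

theorem card_semi [Finite F] : Nat.card (semiaffineGroup F) =
    Nat.card F * (Nat.card F - 1) * Nat.card (RingAut F) := by
  rw [← Nat.card_units, mul_comm (Nat.card F), ← Nat.card_prod, ← Nat.card_prod]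
  refine (Nat.card_eq_of_bijective (fun t : (Fˣ × F) × RingAut F => mkS t.1.1 t.1.2 t.2)
    ⟨fun s t h => ?_, fun σ => ?_⟩).symm
  · obtain ⟨h1, h2, h3⟩ := semi_uniq (fun x => DFunLike.congr_fun (congrArg Subtype.val h) x)
    exact Prod.ext (Prod.ext h1 h2) h3
  · obtain ⟨a, b, h⟩ := tw_spec σ
    exact ⟨((a, b), tw σ), Subtype.ext (Equiv.ext fun x => (h x).symm)⟩

theorem card_aff [Finite F] : Nat.card (affineGroup F) = Nat.card F * (Nat.card F - 1) := by
  rw [← Nat.card_units, mul_comm (Nat.card F), ← Nat.card_prod]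
  refine (Nat.card_eq_of_bijective (fun t : Fˣ × F => (⟨mkS t.1 t.2 1, t.1, t.2, fun _ => rfl⟩ :
    affineGroup F)) ⟨fun s t h => ?_, fun σ => ?_⟩).symm
  · obtain ⟨h1, h2, -⟩ := semi_uniq (φ := 1) (φ' := 1)
      (fun x => DFunLike.congr_fun (congrArg Subtype.val h) x)
    exact Prod.ext h1 h2
  · obtain ⟨a, b, h⟩ := σ.2
    exact ⟨(a, b), Subtype.ext (Equiv.ext fun x => (h x).symm)⟩

theorem card_aut_gf (p n : ℕ) [Fact p.Prime] (hn : n ≠ 0) :
    Nat.card (RingAut (GaloisField p n)) = n := by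
  have := Fintype.ofFinite (GaloisField p n)
  exact CF.Chev.card_ringAut (p := p) (by rw [← Nat.card_eq_fintype_card, GaloisField.card p n hn])

/-- an injective map into `AΓL₁(F)` whose source has full order -/
theorem equiv_of_card {X Y : Type*} [Group X] [Group Y] [Finite Y] (f : X →* Y)
    (hf : Function.Injective f) (h : Nat.card Y ≤ Nat.card X) : Nonempty (X ≃* Y) :=
  ⟨.ofBijective f (hf.bijective_of_nat_card_le h)⟩

theorem equiv_aff {X : Type*} [Group X] [Finite F] (f : X →* semiaffineGroup F)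
    (hf : Function.Injective f) (h1 : ∀ g, twH (f g) = 1)
    (h : Nat.card F * (Nat.card F - 1) ≤ Nat.card X) : Nonempty (X ≃* affineGroup F) := by
  have hm : ∀ g, ((semiaffineGroup F).subtype.comp f) g ∈ affineGroup F := fun g => by
    have : f g ∈ (twH (F := F)).ker := h1 g
    rwa [ker_twH, mem_subgroupOf] at this
  refine equiv_of_card (MonoidHom.codRestrict _ _ hm) (fun a b hab => hf (Subtype.ext ?_))
    (card_aff (F := F) ▸ h)
  exact congrArg (fun x : affineGroup F => (x : Equiv.Perm F)) hab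

end CF.EqC
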