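import Cfsg.Agent.EqC.Count
import Cfsg.Agent.EqC.Semi
import Cfsg.Agent.Perm.Huppert3

/-! A solvable group with a self-centralizing normal elementary abelian Sylow subgroup whose
subgroups of equal order are conjugate embeds in the semi-affine group. -/

set_option autoImplicit false

namespace CF.EqC

open Subgroup Cfsg CF.Fgs1.EqConj CF.Perm
open scoped Pointwise IsMulCommutative

theorem Tr.semilinear_or13 {G V : Type*} [Group G] [Finite G] [AddCommGroup V]
    [DistribMulAction G V] [Finite V] [Nontrivial V] [FaithfulSMul G V] [Group.IsSolvable G]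
    (h : Tr G V) (F : Type*) [Field F] [Finite F] (hF : Nat.card F = Nat.card V) :
    (∃ e : V ≃+ F, ∀ g : G, ∃ (a : F) (τ : F ≃+* F), ∀ v : V, e (g • v) = a * τ (e v)) ∨
      Nat.card V ∈ ({9, 25, 49, 121, 529} : Set ℕ) ∨ (Nat.card V = 81 ∧ ¬ 13 ∣ Nat.card G) := by
  obtain ⟨A, h1, h2, h3⟩ := exists_max_abelian (G := G)
  obtain ⟨M, hM⟩ := exists_AM A h3
  obtain ⟨K, _, _, _, σ, h4⟩ := h.exists_FS A h2
  by_cases hd : Module.finrank K V = 1
  · exact .inl (h4.semilinear hd F hF)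
  right
  rw [Module.natCard_eq_pow_finrank (K := K)]
  obtain ⟨h0, ⟨h5, h6 | h6 | h6 | h6 | h6⟩ | ⟨h5, h6⟩⟩ := h4.cases hM h hd
  any_goals (left; simp [h5, h6]; done)
  refine .inr ⟨by simp [h5, h6], fun h7 => ?_⟩
  have a1 := h4.card_dvd
  have a2 := hM.relIndex_dvd_pow
  have a3 := h4.relIndex_le_sq hM
  have a4 := hM.relIndex_dvd.2 13 (by norm_num)
  have a5 : ∀ r : ℕ, r.Prime → r ∣ A.relIndex M → r = 2 := fun r hr hd =>
    (Nat.prime_dvd_prime_iff_eq hr Nat.prime_two).1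
      ((hr.dvd_of_dvd_pow (hd.trans a2)).trans (by simpa [h6] using a1))
  rw [hM.card_eq, h0, index_top, one_mul] at h7
  rw [h0] at a4
  rw [h5] at a3
  have p13 : Nat.Prime 13 := by norm_num
  rcases (Nat.Prime.dvd_mul p13).1 h7 with h8 | h8
  · obtain ⟨e', b1, b2, b3⟩ := a4 h8
    have b4 := a5 7 (by norm_num)
    generalize A.relIndex M = e at *
    have : e = e' + 13 := by omega
    subst this
    have : e' ≤ 3 := by omega
    interval_cases e' <;> simp_all
  · rcases (Nat.Prime.dvd_mul p13).1 h8 with h9 | h9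
    · exact absurd (a5 13 p13 h9) (by norm_num)
    · have := Nat.le_of_dvd (by norm_num) (h9.trans (show _ ∣ 2 by simpa [h6] using a1))
      omega

variable {X : Type*} [Group X] [Finite X] {p : ℕ} [hp : Fact p.Prime]

theorem exists_conj_pow (h : EqCj p X) {v w : X} (hv : v ^ p = 1) (hw : w ^ p = 1) (h1 : v ≠ 1)
    (h2 : w ≠ 1) : ∃ (g : X) (k : ℕ), w = g * v ^ k * g⁻¹ := by
  obtain ⟨g, hg⟩ := h (zpowers v) (zpowers w) (.of_card ((card_zpowers_eq hv h1).trans
    (pow_one p).symm)) (.of_card ((card_zpowers_eq hw h2).trans (pow_one p).symm))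
    ((card_zpowers_eq hv h1).trans (card_zpowers_eq hw h2).symm)
  obtain ⟨x, hx, hx'⟩ := hg.le (mem_zpowers w)
  obtain ⟨k, rfl⟩ := mem_powers_iff_mem_zpowers.2 hx
  exact ⟨g, k, hx'.symm⟩

theorem semilin [Group.IsSolvable X] (h : EqCj p X) (P : Subgroup X) [hPn : P.Normal]
    [IsMulCommutative P] (hP : ∀ a ∈ P, a ^ p = 1) (hC : centralizer (P : Set X) ≤ P) {n : ℕ}
    (hn : 3 ≤ n ∨ (p = 2 ∧ n ≠ 0)) (hc : Nat.card P = p ^ n) (F : Type*) [Field F] [Finite F]
    (hF : Nat.card F = p ^ n) : ∃ e : Additive P ≃+ F, ∀ g : X, ∃ (a : F) (τ : F ≃+* F),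
      ∀ v : P, e (.ofMul (MulAut.conjNormal g v)) = a * τ (e (.ofMul v)) := by
  have hn0 : n ≠ 0 := by omega
  have : Nontrivial P := Finite.one_lt_card_iff_nontrivial.1
    (hc ▸ Nat.one_lt_pow hn0 hp.out.one_lt)
  have : NeZero p := ⟨hp.out.ne_zero⟩
  have hpv : ∀ v : Additive P, p • v = 0 := fun v => Subtype.ext (hP _ v.toMul.2)
  let _ : Module (ZMod p) (Additive P) := AddCommGroup.zmodModule hpv
  let φ : X →* Additive P ≃ₗ[ℤ] Additive P := MonoidHom.mk'
    (fun g => (MulAut.conjNormal (H := P) g).toAdditive.toIntLinearEquiv) fun a b => by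
      rw [map_mul]; rfl
  let ρ := φ.noncommCoprod (DistribMulAction.toModuleAut (S := (ZMod p)ˣ) ℤ (Additive P))
    fun g u => LinearEquiv.ext fun v => ZMod.map_smul (φ g) (u : ZMod p) v
  have := Group.isSolvable_of_surjective ρ.rangeRestrict_surjective
  have : Finite ρ.range := Finite.of_surjective _ ρ.rangeRestrict_surjective
  have h5 : ∀ g u v, (⟨_, (g, u), rfl⟩ : ρ.range) • v = φ g (u • v) := fun _ _ _ => rfl
  have htr : Tr ρ.range (Additive P) := fun v w hv hw => by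
    obtain ⟨g, k, hk⟩ := exists_conj_pow h (hP _ v.toMul.2) (hP _ w.toMul.2)
      (fun h => hv (Subtype.ext h)) (fun h => hw (Subtype.ext h))
    have h1 : w = φ g ((k : ZMod p) • v) := by
      rw [Nat.cast_smul_eq_nsmul]
      exact Subtype.ext hk
    have h2 : (k : ZMod p) ≠ 0 := fun h => hw (by rw [h1, h, zero_smul, map_zero])
    exact ⟨⟨_, (g, Units.mk0 _ h2), rfl⟩, h1.symm⟩
  rcases Tr.semilinear_or13 htr F (hF.trans hc.symm) with ⟨e, he⟩ | h6 | ⟨h6, h7⟩
  · refine ⟨e, fun g => ?_⟩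
    obtain ⟨a, τ, h⟩ := he ⟨_, (g, 1), rfl⟩
    refine ⟨a, τ, fun v => ?_⟩
    have := h (.ofMul v)
    rw [h5, one_smul] at this
    exact this
  · exfalso
    change Nat.card P ∈ _ at h6
    have key : ∀ r : ℕ, r.Prime → r ≠ 2 → p ^ n ≠ r ^ 2 := fun r hr hr2 h => by
      obtain rfl := (Nat.prime_dvd_prime_iff_eq hp.out hr).1
        (hp.out.dvd_of_dvd_pow (h ▸ dvd_pow_self p hn0))
      have := Nat.pow_right_injective hr.two_le h
      omega
    rw [hc] at h6
    rcases h6 with h6 | h6 | h6 | h6 | h6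
    exacts [key 3 (by norm_num) (by norm_num) h6, key 5 (by norm_num) (by norm_num) h6,
      key 7 (by norm_num) (by norm_num) h6, key 11 (by norm_num) (by norm_num) h6,
      key 23 (by norm_num) (by norm_num) h6]
  · exfalso
    change Nat.card P = 81 at h6
    obtain rfl : p = 3 := (Nat.prime_dvd_prime_iff_eq hp.out Nat.prime_three).1
      (hp.out.dvd_of_dvd_pow (n := 4) ((dvd_pow_self p hn0).trans (by rw [← hc, h6]; norm_num)))
    obtain ⟨m, m1, m2⟩ := exists_count h P hP (by rw [h6]; norm_num)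
    rw [h6] at m2
    have : Fact (Nat.Prime 13) := ⟨by norm_num⟩
    obtain ⟨g, hg⟩ := exists_prime_orderOf_dvd_card' (G := X) 13
      ((show 13 ∣ m from ⟨10, by omega⟩).trans m1)
    have h8 : ρ.rangeRestrict (g, 1) ≠ 1 := fun h8 => by
      have h9 : g ∈ P := hC fun a ha => by
        have := h5 g 1 (Additive.ofMul (⟨a, ha⟩ : P))
        rw [show (⟨_, (g, 1), rfl⟩ : ρ.range) = 1 from h8, one_smul, one_smul] at this
        exact (mul_inv_eq_iff_eq_mul.1
          (congrArg (fun x : Additive P => (x.toMul : X)) this).symm).symm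
      have := P.orderOf_dvd_natCard h9
      rw [hg, h6] at this
      norm_num at this
    refine h7 (orderOf_eq_prime (p := 13) ?_ h8 ▸ orderOf_dvd_natCard _)
    rw [← map_pow, Prod.pow_mk, ← hg, pow_orderOf_eq_one, one_pow]
    exact map_one _

omit [Finite X] hp in
theorem exists_embed (P : Subgroup X) [hPn : P.Normal] [IsMulCommutative P]
    (hco : (Nat.card P).Coprime P.index) (hC : centralizer (P : Set X) ≤ P) {F : Type*} [Field F]
    (e : Additive P ≃+ F) (he : ∀ g : X, ∃ (a : F) (τ : F ≃+* F),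
      ∀ v : P, e (.ofMul (MulAut.conjNormal g v)) = a * τ (e (.ofMul v))) :
    ∃ f : X →* semiaffineGroup F, Function.Injective f ∧ ∀ g : X, ∃ a : Fˣ,
      ∀ v : P, e (.ofMul (MulAut.conjNormal g v)) = a * twH (f g) (e (.ofMul v)) := by
  obtain ⟨H, hH⟩ := exists_right_complement'_of_coprime hco
  let o : X ⧸ H := (1 : X)
  let ε : Additive P ≃ X ⧸ H := Equiv.ofBijective (fun n => (n.toMul : X) • o) ⟨fun a b h => by
    have h1 : (a.toMul : X)⁻¹ * b.toMul ∈ H := by
      simpa [o] using QuotientGroup.eq.1 h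
    exact Subtype.ext (inv_mul_eq_one.1 (disjoint_def.1 hH.disjoint
      (mul_mem (inv_mem a.toMul.2) b.toMul.2) h1)), fun x => by
    obtain ⟨x, rfl⟩ := QuotientGroup.mk_surjective x
    obtain ⟨⟨a, b⟩, rfl⟩ := hH.2 x
    exact ⟨.ofMul a, QuotientGroup.eq.2 (by simp)⟩⟩
  have h0 : ∀ v w, ε (v + w) = (v.toMul : X) • ε w := fun v w => mul_smul (v.toMul : X) _ o
  have h1 : ∀ (g : X) (v : P) w, g • o = ε w →
      g • ε (.ofMul v) = ε (.ofMul (MulAut.conjNormal g v) + w) := fun g v w h => by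
    rw [h0, ← h]
    change g • (v : X) • o = (g * v * g⁻¹) • g • o
    simp [mul_smul]
  let η : X ⧸ H ≃ F := ε.symm.trans e.toEquiv
  let ψ : X →* Equiv.Perm F := η.permCongrHom.toMonoidHom.comp (MulAction.toPermHom X (X ⧸ H))
  have h2 : ∀ g : X, ∃ (a : Fˣ) (b : F) (τ : F ≃+* F), (∀ x, ψ g x = a * τ x + b) ∧
      ∀ v : P, e (.ofMul (MulAut.conjNormal g v)) = a * τ (e (.ofMul v)) := fun g => by
    obtain ⟨a, τ, h⟩ := he g
    obtain ⟨w, hw⟩ := ε.surjective (g • o)
    have ha : a ≠ 0 := fun h5 => by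
      have := h (e.symm 1).toMul
      rw [h5, zero_mul, map_eq_zero_iff _ e.injective] at this
      have h6 : (e.symm 1).toMul = 1 := (map_eq_one_iff _ (MulAut.conjNormal g).injective).1 this
      exact one_ne_zero ((map_eq_zero_iff _ e.symm.injective).1 h6)
    refine ⟨Units.mk0 a ha, e w, τ, fun x => ?_, h⟩
    obtain ⟨v, rfl⟩ := e.surjective x
    change e (ε.symm (g • ε (e.symm (e v)))) = _
    rw [e.symm_apply_apply, show ε v = ε (.ofMul v.toMul) from rfl, h1 g _ w hw.symm,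
      ε.symm_apply_apply, map_add, h]
    rfl
  refine ⟨ψ.codRestrict _ fun g => ?_, (injective_iff_map_eq_one _).2 fun g hg => ?_, fun g => ?_⟩
  · obtain ⟨a, b, τ, h, -⟩ := h2 g
    exact ⟨a, b, τ, h⟩
  · have h3 : MulAction.toPermHom X (X ⧸ H) g = 1 :=
      (map_eq_one_iff _ η.permCongrHom.injective).1 (congrArg Subtype.val hg)
    have h4 : ∀ x : X, x⁻¹ * g * x ∈ H := fun x => by
      have := QuotientGroup.eq.1 (DFunLike.congr_fun h3 (x : X ⧸ H)).symm
      simpa [mul_assoc] using this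
    have h5 : g ∈ H := by simpa using h4 1
    refine disjoint_def.1 hH.disjoint (hC fun a ha => ?_) h5
    have := disjoint_def.1 hH.disjoint (x := a⁻¹ * g * a * g⁻¹)
      (by simpa [mul_assoc] using mul_mem (inv_mem ha) (hPn.conj_mem a ha g))
      (mul_mem (h4 a) (inv_mem h5))
    rw [mul_inv_eq_one, mul_assoc, inv_mul_eq_iff_eq_mul] at this
    exact this.symm
  · obtain ⟨a, b, τ, h, h'⟩ := h2 g
    exact ⟨a, fun v => by rw [show twH (ψ.codRestrict _ _ g) = τ from tw_eq h]; exact h' v⟩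

end CF.EqC
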