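import Cfsg.Agent.Fgs1.EqConj
import Cfsg.Agent.Perm.Basic

/-! Counting subgroups of order `p²` in an elementary abelian group; quotients of `EqCj`. -/

set_option autoImplicit false

namespace CF.EqC

open Subgroup Cfsg CF.Fgs1.EqConj
open scoped Pointwise

variable {X : Type*} [Group X] [Finite X] {p : ℕ} [hp : Fact p.Prime]

theorem card_pair {v w : X} (hv : v ^ p = 1) (hw : w ^ p = 1) (h1 : v ≠ 1) (h2 : w ∉ zpowers v)
    (hc : Commute v w) : Nat.card (zpowers w ⊔ zpowers v : Subgroup X) = p ^ 2 := by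
  have hw1 : w ≠ 1 := fun h => h2 (h ▸ one_mem _)
  have hinf : zpowers w ⊓ zpowers v = ⊥ := by
    rcases CF.Fgs1.eq_bot_or_eq_of_card_prime (Z := zpowers w) (H := zpowers w ⊓ zpowers v)
      ((card_zpowers_eq hw hw1).symm ▸ hp.out) inf_le_left with h | h
    · exact h
    · exact absurd (inf_eq_left.mp h (mem_zpowers w)) h2
  rw [CF.Solv.card_sup_of_inf_eq_bot ((zpowers_le.mpr
    (CF.Solv.mem_centralizer_zpowers_iff.mpr hc.symm)).trans (centralizer_le_normalizer _)) hinf,
    card_zpowers_eq hw hw1, card_zpowers_eq hv h1, sq]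

open Classical in
/-- independent pairs -/
noncomputable def DD [Fintype X] (A : Subgroup X) : Finset (X × X) :=
  Finset.univ.filter fun x => x.1 ∈ A ∧ x.2 ∈ A ∧ x.1 ≠ 1 ∧ x.2 ∉ zpowers x.1

omit [Finite X] in
open Classical in
theorem card_DD [Fintype X] (A : Subgroup X) (hA : ∀ a ∈ A, a ^ p = 1) :
    (DD A).card = (Nat.card A - 1) * (Nat.card A - p) := by
  have h0 : ∀ B : Subgroup X, (Finset.univ.filter (· ∈ B)).card = Nat.card B := fun B => by
    rw [Nat.card_eq_fintype_card, Fintype.card_subtype]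
  rw [Finset.card_eq_sum_card_fiberwise (f := Prod.fst)
    (t := (Finset.univ.filter (· ∈ A)).erase 1) (fun x hx => by
      simp only [DD, Finset.coe_filter, Finset.mem_univ, true_and, Set.mem_ofPred_eq] at hx
      simp [hx.1, hx.2.2.1]), Finset.sum_const_nat (m := Nat.card A - p),
    Finset.card_erase_of_mem (by simp), h0]
  intro v hv
  simp only [Finset.mem_erase, Finset.mem_filter, Finset.mem_univ, true_and] at hv
  rw [← card_zpowers_eq (hA v hv.2) hv.1, ← h0, ← h0, ← Finset.card_sdiff_of_subset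
    (fun x hx => by
      simp only [Finset.mem_filter, Finset.mem_univ, true_and] at hx ⊢
      exact zpowers_le.2 hv.2 hx)]
  refine Finset.card_bij (fun x _ => x.2) (fun x hx => ?_) (fun x hx y hy h => ?_) fun w hw => ?_
  · simp only [DD, Finset.mem_filter, Finset.mem_univ, true_and] at hx
    simp [hx.1.2.1, ← hx.2, hx.1.2.2.2]
  · simp only [Finset.mem_filter] at hx hy
    exact Prod.ext (hx.2.trans hy.2.symm) h
  · simp only [Finset.mem_sdiff, Finset.mem_filter, Finset.mem_univ, true_and] at hw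
    exact ⟨(v, w), by simp [DD, hv.1, hv.2, hw.1, hw.2], rfl⟩

/-- the number of subgroups of order `p²` divides the group order -/
theorem exists_count (h : EqCj p X) (P : Subgroup X) [P.Normal] [IsMulCommutative P]
    (hP : ∀ a ∈ P, a ^ p = 1) (h2 : p ^ 2 ∣ Nat.card P) : ∃ m, m ∣ Nat.card X ∧
      (Nat.card P - 1) * (Nat.card P - p) = m * ((p ^ 2 - 1) * (p ^ 2 - p)) := by
  classical
  have := Fintype.ofFinite X
  have := Fintype.ofFinite (Subgroup X)
  obtain ⟨W, hW⟩ := Sylow.exists_subgroup_card_pow_prime p (G := P) h2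
  have hW0 : Nat.card (W.map P.subtype) = p ^ 2 :=
    (card_map_of_injective P.subtype_injective).trans hW
  let T : Finset (Subgroup X) := Finset.univ.filter fun U => U ≤ P ∧ Nat.card U = p ^ 2
  refine ⟨T.card, ?_, ?_⟩
  · have : MulAction.orbit (ConjAct X) (W.map P.subtype) = T := by
      ext U
      simp only [T, Finset.coe_filter, Finset.mem_univ, true_and, Set.mem_ofPred_eq]
      constructor
      · rintro ⟨g, rfl⟩
        refine ⟨?_, (Nat.card_congr (equivSMul g _).toEquiv).symm.trans hW0⟩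
        rintro _ ⟨x, hx, rfl⟩
        exact ‹P.Normal›.conj_mem x (map_subtype_le _ hx) (ConjAct.ofConjAct g)
      · rintro ⟨-, h3⟩
        obtain ⟨g, rfl⟩ := h _ U (.of_card hW0) (.of_card h3) (hW0.trans h3.symm)
        exact ⟨ConjAct.toConjAct g, rfl⟩
    have h3 := CF.Perm.card_orbit_dvd (G := ConjAct X) (W.map P.subtype)
    rwa [this, Nat.card_coe_set_eq, Set.ncard_coe_finset] at h3
  · rw [← card_DD P hP, Finset.card_eq_sum_card_fiberwise
      (f := fun x => zpowers x.2 ⊔ zpowers x.1) (t := T), Finset.sum_const_nat]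
    · intro U hU
      simp only [T, Finset.mem_filter, Finset.mem_univ, true_and] at hU
      rw [← hU.2, ← card_DD U fun a ha => hP a (hU.1 ha)]
      congr 1
      ext ⟨v, w⟩
      simp only [DD, Finset.mem_filter, Finset.mem_univ, true_and]
      constructor
      · rintro ⟨⟨-, -, h3, h4⟩, rfl⟩
        exact ⟨mem_sup_right (mem_zpowers v), mem_sup_left (mem_zpowers w), h3, h4⟩
      · rintro ⟨h3, h4, h5, h6⟩
        refine ⟨⟨hU.1 h3, hU.1 h4, h5, h6⟩, eq_of_le_of_card_ge
          (sup_le (zpowers_le.2 h4) (zpowers_le.2 h3)) ?_⟩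
        rw [card_pair (hP v (hU.1 h3)) (hP w (hU.1 h4)) h5 h6
          (setLike_mul_comm (hU.1 h3) (hU.1 h4)), hU.2]
    · rintro ⟨v, w⟩ hx
      simp only [DD, Finset.coe_filter, Finset.mem_univ, true_and, Set.mem_ofPred_eq] at hx
      simp only [T, Finset.coe_filter, Finset.mem_univ, true_and, Set.mem_ofPred_eq]
      exact ⟨sup_le (zpowers_le.2 hx.2.1) (zpowers_le.2 hx.1), card_pair (hP v hx.1) (hP w hx.2.1)
        hx.2.2.1 hx.2.2.2 (setLike_mul_comm hx.1 hx.2.1)⟩

omit [Finite X] hp in
theorem map_conj_map {Y : Type*} [Group Y] (f : X →* Y) (H : Subgroup X) (g : X) :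
    (H.map (MulAut.conj g).toMonoidHom).map f = (H.map f).map (MulAut.conj (f g)).toMonoidHom := by
  rw [map_map, map_map]
  congr 1
  ext x
  simp

omit hp in
theorem card_comap_eq {Y : Type*} [Group Y] {f : X →* Y} (hf : Function.Surjective f)
    (H : Subgroup Y) : Nat.card (H.comap f) = Nat.card H * Nat.card f.ker := by
  have := Finite.of_surjective f hf
  have h1 := (H.comap f).card_mul_index
  have h2 := H.card_mul_index
  have h3 := f.ker.card_mul_index
  rw [index_comap_of_surjective _ hf] at h1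
  rw [index_ker, MonoidHom.range_eq_top.2 hf, card_top, ← h2, ← h1] at h3
  refine Nat.eq_of_mul_eq_mul_right (Nat.pos_of_ne_zero H.index_ne_zero_of_finite) ?_
  rw [← h3]; ring

theorem eqCj_of_surj (h : EqCj p X) {Y : Type*} [Group Y] {f : X →* Y}
    (hf : Function.Surjective f) : EqCj p Y := by
  have key : ∀ H : Subgroup Y, IsPGroup p H → ∃ S : Subgroup X, IsPGroup p S ∧ S.map f = H ∧
      Nat.card S = p ^ (Nat.card H * Nat.card f.ker).factorization p := fun H hH => by
    obtain ⟨S⟩ : Nonempty (Sylow p (H.comap f)) := inferInstance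
    refine ⟨(S : Subgroup _).map (H.comap f).subtype, S.2.map _, ?_, ?_⟩
    · let φ : H.comap f →* H := (f.comp (H.comap f).subtype).codRestrict H fun x => x.2
      have hφ : Function.Surjective φ := fun ⟨y, hy⟩ => by
        obtain ⟨x, rfl⟩ := hf y
        exact ⟨⟨x, hy⟩, rfl⟩
      have := Finite.of_surjective φ hφ
      have h1 := (S.mapSurjective hφ).3 (hH.to_subgroup ⊤) le_top
      have h2 := congrArg (map H.subtype) h1
      rw [← MonoidHom.range_eq_map, range_subtype, Sylow.coe_mapSurjective, map_map] at h2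
      rw [map_map]
      exact h2.symm
    · rw [card_map_of_injective (subtype_injective _), S.card_eq_multiplicity, card_comap_eq hf]
  intro H K hH hK hc
  obtain ⟨S, s1, rfl, s3⟩ := key H hH
  obtain ⟨U, u1, rfl, u3⟩ := key K hK
  obtain ⟨g, rfl⟩ := h S U s1 u1 (by rw [s3, u3, hc])
  exact ⟨f g, map_conj_map f S g⟩

end CF.EqC
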